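import Mathlib

/-!
# A map of finite projective modules which is bijective in codimension one is bijective
-/

set_option autoImplicit false
set_option linter.style.haveILetI false

universe u

open TensorProduct

namespace Groth.Agent.CodimOneIso

theorem bijective_of_isLocalRing {R : Type u} [CommRing R] [IsNoetherianRing R] [IsLocalRing R]
    {N M : Type u} [AddCommGroup N] [AddCommGroup M] [Module R N] [Module R M]
    [Module.Free R N] [Module.Free R M] [Module.Finite R N] [Module.Finite R M] (φ : N →ₗ[R] M)
    (h : ∀ (K : Type u) [Field K] [Algebra R K], (RingHom.ker (algebraMap R K)).height ≤ 1 →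
      Function.Bijective (φ.baseChange K)) :
    Function.Bijective φ := by
  classical
  let ι := Module.Free.ChooseBasisIndex R N
  let κ := Module.Free.ChooseBasisIndex R M
  let bN : Module.Basis ι R N := Module.Free.chooseBasis R N
  let bM : Module.Basis κ R M := Module.Free.chooseBasis R M
  haveI : Finite ι := Module.Finite.finite_basis bN
  haveI : Finite κ := Module.Finite.finite_basis bM
  haveI : Fintype ι := Fintype.ofFinite ι
  haveI : Fintype κ := Fintype.ofFinite κ
  have hker : ∀ (p : Ideal R) [p.IsPrime], RingHom.ker (algebraMap R p.ResidueField) = p := fun p _ =>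
    p.ker_algebraMap_residueField
  obtain ⟨q, hq⟩ : (minimalPrimes R).Nonempty := Set.nonempty_coe_sort.1 (Ideal.nonempty_minimalPrimes bot_ne_top)
  haveI : q.IsPrime := hq.1.1
  have hq1 : q.height ≤ 1 := by
    have : q.height = 0 := Ideal.height_eq_zero_iff.2 hq
    simp [this]
  let e₀ := LinearEquiv.ofBijective (φ.baseChange q.ResidueField) (h q.ResidueField (by rw [hker]; exact hq1))
  have hcard : Fintype.card ι = Fintype.card κ := by
    rw [← Module.finrank_eq_card_basis (Algebra.TensorProduct.basis q.ResidueField bN),
      ← Module.finrank_eq_card_basis (Algebra.TensorProduct.basis q.ResidueField bM)]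
    exact e₀.finrank_eq
  let bN' := bN.reindex (Fintype.equivOfCardEq hcard)
  let A := LinearMap.toMatrix bN' bM φ
  suffices hA : IsUnit A.det by
    have hunit : IsUnit A := (Matrix.isUnit_iff_isUnit_det A).2 hA
    have : φ = Matrix.toLin bN' bM A := (Matrix.toLin_toMatrix _ _ φ).symm
    rw [this]
    obtain ⟨B, hB⟩ := hunit
    let e : N ≃ₗ[R] M := LinearEquiv.ofLinear (Matrix.toLin bN' bM A) (Matrix.toLin bM bN' (↑B⁻¹ : Matrix κ κ R))
      (by rw [← Matrix.toLin_mul, ← hB, B.mul_inv, Matrix.toLin_one])
      (by rw [← Matrix.toLin_mul, ← hB, B.inv_mul, Matrix.toLin_one])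
    exact e.bijective
  by_contra hd
  obtain ⟨p, hp⟩ := Ideal.nonempty_minimalPrimes (I := Ideal.span {A.det})
    (by rwa [Ne, Ideal.span_singleton_eq_top])
  haveI := hp.1.1
  have hp1 : p.height ≤ 1 := Ideal.height_le_one_of_isPrincipal_of_mem_minimalPrimes _ p hp
  have hb := h p.ResidueField (by rw [hker]; exact hp1)
  have hmat : LinearMap.toMatrix (Algebra.TensorProduct.basis p.ResidueField bN')
      (Algebra.TensorProduct.basis p.ResidueField bM) (φ.baseChange p.ResidueField) =
      A.map (algebraMap R p.ResidueField) := LinearMap.toMatrix_baseChange _ φ bN' bM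
  have hu := LinearEquiv.isUnit_det (LinearEquiv.ofBijective _ hb)
    (Algebra.TensorProduct.basis p.ResidueField bN') (Algebra.TensorProduct.basis p.ResidueField bM)
  change IsUnit (LinearMap.toMatrix _ _ (φ.baseChange p.ResidueField)).det at hu
  rw [hmat, ← RingHom.mapMatrix_apply, ← RingHom.map_det, isUnit_iff_ne_zero] at hu
  exact hu (Ideal.algebraMap_residueField_eq_zero.2 (hp.1.2 (Ideal.mem_span_singleton_self _)))

theorem bijective_of_codimOne {R : Type u} [CommRing R] [IsNoetherianRing R]
    {N M : Type u} [AddCommGroup N] [AddCommGroup M] [Module R N] [Module R M]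
    [Module.Finite R N] [Module.Finite R M] [Module.Flat R N] [Module.Flat R M] (φ : N →ₗ[R] M)
    (h : ∀ (K : Type u) [Field K] [Algebra R K], (RingHom.ker (algebraMap R K)).height ≤ 1 →
      Function.Bijective (φ.baseChange K)) :
    Function.Bijective φ := by
  refine bijective_of_isLocalized_maximal (fun P _ => Localization.AtPrime P ⊗[R] N)
    (fun P _ => TensorProduct.mk R (Localization.AtPrime P) N 1) (fun P _ => Localization.AtPrime P ⊗[R] M)
    (fun P _ => TensorProduct.mk R (Localization.AtPrime P) M 1) φ fun P _ => ?_
  have hmap : IsLocalizedModule.map P.primeCompl (TensorProduct.mk R (Localization.AtPrime P) N 1)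
      (TensorProduct.mk R (Localization.AtPrime P) M 1) φ = (φ.baseChange (Localization.AtPrime P)).restrictScalars R := by
    refine IsLocalizedModule.ext P.primeCompl (TensorProduct.mk R (Localization.AtPrime P) N 1)
      (fun x => IsLocalizedModule.map_units (TensorProduct.mk R (Localization.AtPrime P) M 1) x) ?_
    ext n
    simp only [LinearMap.coe_comp, LinearMap.coe_restrictScalars, Function.comp_apply, mk_apply,
      LinearMap.baseChange_tmul]
    exact IsLocalizedModule.map_apply P.primeCompl (TensorProduct.mk R (Localization.AtPrime P) N 1)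
      (TensorProduct.mk R (Localization.AtPrime P) M 1) φ n
  rw [hmap]
  haveI : Module.Free (Localization.AtPrime P) (Localization.AtPrime P ⊗[R] N) := Module.free_of_flat_of_isLocalRing
  haveI : Module.Free (Localization.AtPrime P) (Localization.AtPrime P ⊗[R] M) := Module.free_of_flat_of_isLocalRing
  refine bijective_of_isLocalRing (φ.baseChange (Localization.AtPrime P)) fun K _ _ hK => ?_
  letI : Algebra R K := ((algebraMap (Localization.AtPrime P) K).comp (algebraMap R (Localization.AtPrime P))).toAlgebra
  haveI : IsScalarTower R (Localization.AtPrime P) K := IsScalarTower.of_algebraMap_eq fun _ => rfl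
  have hK' : (RingHom.ker (algebraMap R K)).height ≤ 1 := by
    haveI : (RingHom.ker (algebraMap (Localization.AtPrime P) K)).IsPrime := RingHom.ker_isPrime _
    refine le_of_eq_of_le ?_ hK
    exact IsLocalization.height_under P.primeCompl (RingHom.ker (algebraMap (Localization.AtPrime P) K))
  have hb := h K hK'
  let eN := AlgebraTensorModule.cancelBaseChange R (Localization.AtPrime P) K K N
  let eM := AlgebraTensorModule.cancelBaseChange R (Localization.AtPrime P) K K M
  have he : ((φ.baseChange (Localization.AtPrime P)).baseChange K) =
      eM.symm.toLinearMap ∘ₗ φ.baseChange K ∘ₗ eN.toLinearMap := by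
    apply LinearMap.ext
    intro x
    induction x using TensorProduct.induction_on with
    | zero => simp
    | add a b ha hb => rw [map_add, map_add, ha, hb]
    | tmul k y =>
      induction y using TensorProduct.induction_on with
      | zero => simp
      | add a b ha hb => rw [tmul_add, map_add, map_add, ha, hb]
      | tmul r n =>
        apply eM.injective
        simp [eN, eM]
  rw [he]
  exact eM.symm.bijective.comp (hb.comp eN.bijective)

end Groth.Agent.CodimOneIso
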