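import Groth.Agent.CodimOneIso.Algebra
import Mathlib.AlgebraicGeometry.Morphisms.Finite
import Mathlib.AlgebraicGeometry.Morphisms.Flat

/-!
# A morphism of finite flat schemes which is an isomorphism in codimension one is an isomorphism
-/

set_option autoImplicit false
set_option linter.style.haveILetI false

universe u

open CategoryTheory Limits AlgebraicGeometry TensorProduct

noncomputable section

namespace Groth.Agent.CodimOneIso

theorem isIso_snd_comp {X Y T T' : Scheme.{u}} (f : X ⟶ Y) (t : T ⟶ Y) (e : T' ⟶ T) [IsIso (pullback.snd f t)] :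
    IsIso (pullback.snd f (e ≫ t)) := by
  rw [← pullbackLeftPullbackSndIso_inv_snd_snd f t e]
  infer_instance

theorem bijective_baseChange_of_isIso {R N M : Type u} [CommRing R] [CommRing N] [CommRing M]
    [Algebra R N] [Algebra R M] (φ : N →ₐ[R] M) (K : Type u) [Field K] [Algebra R K]
    (h : IsIso (pullback.snd (Spec.map (CommRingCat.ofHom φ.toRingHom))
      (Spec.map (CommRingCat.ofHom (algebraMap N (N ⊗[R] K)))))) :
    Function.Bijective (φ.toLinearMap.baseChange K) := by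
  letI : Algebra N M := φ.toRingHom.toAlgebra
  haveI : IsScalarTower R N M := IsScalarTower.of_algebraMap_eq fun r => (φ.commutes r).symm
  have hsq := isPullback_SpecMap_of_isPushout _ _ _ _
    (CommRingCat.isPushout_tensorProduct N M (N ⊗[R] K))
  have h1 : IsIso (Spec.map (CommRingCat.ofHom
      (Algebra.TensorProduct.includeRight.toRingHom : (N ⊗[R] K) →+* M ⊗[N] (N ⊗[R] K)))) := by
    haveI : IsIso (pullback.snd (Spec.map (CommRingCat.ofHom (algebraMap N M)))
      (Spec.map (CommRingCat.ofHom (algebraMap N (N ⊗[R] K))))) := h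
    rw [show Spec.map (CommRingCat.ofHom
        (Algebra.TensorProduct.includeRight.toRingHom : (N ⊗[R] K) →+* M ⊗[N] (N ⊗[R] K))) =
        hsq.isoPullback.hom ≫ pullback.snd _ _ from hsq.isoPullback_hom_snd.symm]
    infer_instance
  have h2 := isIso_SpecMap_iff.1 h1
  let E : M ⊗[N] (N ⊗[R] K) ≃ₗ[R] M ⊗[R] K :=
    (AlgebraTensorModule.cancelBaseChange R N N M K).restrictScalars R
  have key : (φ.toLinearMap.rTensor K : N ⊗[R] K → M ⊗[R] K) =
      E ∘ (Algebra.TensorProduct.includeRight : (N ⊗[R] K) →ₐ[N] M ⊗[N] (N ⊗[R] K)) := by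
    funext x
    induction x using TensorProduct.induction_on with
    | zero => simp
    | add a b ha hb => simp only [Function.comp_apply, map_add] at *; rw [ha, hb]
    | tmul n k =>
      simp [E, Algebra.smul_def]
      rfl
  have h3 : Function.Bijective (φ.toLinearMap.rTensor K) := by rw [key]; exact E.bijective.comp h2
  have h4 : (φ.toLinearMap.baseChange K : K ⊗[R] N → K ⊗[R] M) =
      (TensorProduct.comm R M K) ∘ φ.toLinearMap.rTensor K ∘ (TensorProduct.comm R K N) := by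
    funext x
    induction x using TensorProduct.induction_on with
    | zero => simp
    | add a b ha hb => simp only [Function.comp_apply, map_add] at *; rw [ha, hb]
    | tmul k n => simp
  rw [h4]
  exact (TensorProduct.comm R M K).bijective.comp (h3.comp (TensorProduct.comm R K N).bijective)

theorem bijective_app {X Y S : Scheme.{u}} [IsLocallyNoetherian S] (f : X ⟶ Y) (g : Y ⟶ S)
    [IsFinite g] [Flat g] [IsFinite (f ≫ g)] [Flat (f ≫ g)]
    (h : ∀ s : S, ringKrullDim (S.presheaf.stalk s) ≤ 1 → IsIso (pullback.snd f (g.fiberι s)))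
    {U : S.Opens} (hU : IsAffineOpen U) : Function.Bijective (f.app (g ⁻¹ᵁ U)).hom := by
  haveI : IsNoetherianRing Γ(S, U) := IsLocallyNoetherian.component_noetherian ⟨U, hU⟩
  have hV : IsAffineOpen (g ⁻¹ᵁ U) := hU.preimage g
  have hW : IsAffineOpen (f ⁻¹ᵁ g ⁻¹ᵁ U) := hU.preimage (f ≫ g)
  have hgfin : (g.app U).hom.Finite := g.finite_app U hU
  have hgflat : (g.app U).hom.Flat := by
    rw [g.app_eq_appLE]; exact g.flat_appLE hU hV _
  have hcfin : (g.app U ≫ f.app (g ⁻¹ᵁ U)).hom.Finite := by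
    rw [← Scheme.Hom.comp_app]; exact (f ≫ g).finite_app U hU
  have hcflat : (g.app U ≫ f.app (g ⁻¹ᵁ U)).hom.Flat := by
    rw [← Scheme.Hom.comp_app, (f ≫ g).app_eq_appLE]; exact (f ≫ g).flat_appLE hU hW _
  algebraize [(g.app U).hom, (g.app U ≫ f.app (g ⁻¹ᵁ U)).hom]
  let φ : Γ(Y, g ⁻¹ᵁ U) →ₐ[Γ(S, U)] Γ(X, f ⁻¹ᵁ g ⁻¹ᵁ U) :=
    { (f.app (g ⁻¹ᵁ U)).hom with commutes' := fun _ => rfl }
  refine bijective_of_codimOne φ.toLinearMap fun K _ _ hK => bijective_baseChange_of_isIso φ K ?_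
  let x : Spec (CommRingCat.of K) ⟶ S := Spec.map (CommRingCat.ofHom (algebraMap Γ(S, U) K)) ≫ hU.fromSpec
  let y : PrimeSpectrum Γ(S, U) := (Spec.map (CommRingCat.ofHom (algebraMap Γ(S, U) K))).base (IsLocalRing.closedPoint K)
  have hy : y.asIdeal = RingHom.ker (algebraMap Γ(S, U) K) := by
    show (IsLocalRing.maximalIdeal K).comap (algebraMap Γ(S, U) K) = _
    rw [IsLocalRing.maximalIdeal_eq_bot]; rfl
  obtain ⟨⟨s, θ⟩, hθ⟩ := (Scheme.SpecToEquivOfField K S).symm.surjective x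
  have hθ' : Spec.map θ ≫ S.fromSpecResidueField s = x := hθ
  have hsy : hU.fromSpec.base y = s := by
    have := congrArg (fun t : Spec (CommRingCat.of K) ⟶ S => t.base (IsLocalRing.closedPoint K)) hθ'
    simpa [x, y] using this.symm
  have hdim : ringKrullDim (S.presheaf.stalk s) ≤ 1 := by
    subst hsy
    have hmem : hU.fromSpec.base y ∈ U := by
      have := Set.mem_range_self (f := hU.fromSpec.base) y
      rwa [hU.range_fromSpec] at this
    let _ : Algebra Γ(S, U) (S.presheaf.stalk (hU.fromSpec.base y)) := (S.presheaf.germ U _ hmem).hom.toAlgebra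
    haveI : IsLocalization.AtPrime (S.presheaf.stalk (hU.fromSpec.base y)) y.asIdeal := hU.isLocalization_stalk' y hmem
    rw [IsLocalization.AtPrime.ringKrullDim_eq_height y.asIdeal, hy]
    exact_mod_cast hK
  have hiso := h s hdim
  let j : Spec (CommRingCat.of (Γ(Y, g ⁻¹ᵁ U) ⊗[Γ(S, U)] K)) ⟶ Spec Γ(Y, g ⁻¹ᵁ U) :=
    Spec.map (CommRingCat.ofHom (algebraMap Γ(Y, g ⁻¹ᵁ U) (Γ(Y, g ⁻¹ᵁ U) ⊗[Γ(S, U)] K)))
  let q : Spec (CommRingCat.of (Γ(Y, g ⁻¹ᵁ U) ⊗[Γ(S, U)] K)) ⟶ Spec (CommRingCat.of K) :=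
    Spec.map (CommRingCat.ofHom (Algebra.TensorProduct.includeRight.toRingHom : K →+* Γ(Y, g ⁻¹ᵁ U) ⊗[Γ(S, U)] K))
  have hg : Spec.map (g.app U) ≫ hU.fromSpec = hV.fromSpec ≫ g := by
    rw [g.app_eq_appLE]; exact hU.SpecMap_appLE_fromSpec g hV _
  have hfac : (j ≫ hV.fromSpec) ≫ g = (q ≫ Spec.map θ) ≫ S.fromSpecResidueField s := by
    rw [Category.assoc, ← hg, Category.assoc, hθ']
    simp only [j, q, x, ← Spec.map_comp_assoc]
    congr 2
    ext r
    exact (Algebra.TensorProduct.includeRight (R := Γ(S, U)) (A := Γ(Y, g ⁻¹ᵁ U)) (B := K)).commutes r |>.symm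
  let e := pullback.lift (f := g) (g := S.fromSpecResidueField s) (j ≫ hV.fromSpec) (q ≫ Spec.map θ) hfac
  have he : e ≫ pullback.fst g (S.fromSpecResidueField s) = j ≫ hV.fromSpec := pullback.lift_fst _ _ _
  haveI : IsIso (pullback.snd f (pullback.fst g (S.fromSpecResidueField s))) := hiso
  have h1 : IsIso (pullback.snd f (j ≫ hV.fromSpec)) := by rw [← he]; exact isIso_snd_comp f _ e
  have hsq : IsPullback (Spec.map (f.app (g ⁻¹ᵁ U))) hW.fromSpec hV.fromSpec f := by
    refine IsOpenImmersion.isPullback _ _ _ _ ?_ ?_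
    · rw [f.app_eq_appLE]; exact (hV.SpecMap_appLE_fromSpec f hW _).symm
    · rw [IsAffineOpen.opensRange_fromSpec, IsAffineOpen.opensRange_fromSpec]
  have hsq2 := ((IsPullback.of_hasPullback (Spec.map (f.app (g ⁻¹ᵁ U))) j).paste_horiz hsq.flip)
  have e2 : pullback.snd (Spec.map (f.app (g ⁻¹ᵁ U))) j =
      hsq2.isoPullback.hom ≫ pullback.snd f (j ≫ hV.fromSpec) := hsq2.isoPullback_hom_snd.symm
  show IsIso (pullback.snd (Spec.map (f.app (g ⁻¹ᵁ U))) j)
  rw [e2]; infer_instance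

theorem isIso_of_fibres_codimOne {X Y S : Scheme.{u}} [IsLocallyNoetherian S] (f : X ⟶ Y) (g : Y ⟶ S)
    [IsFinite g] [Flat g] [IsFinite (f ≫ g)] [Flat (f ≫ g)]
    (h : ∀ s : S, ringKrullDim (S.presheaf.stalk s) ≤ 1 → IsIso (pullback.snd f (g.fiberι s))) :
    IsIso f := by
  haveI : IsAffineHom f := MorphismProperty.of_postcomp (W := @IsAffineHom) (W' := @IsSeparated) f g inferInstance inferInstance
  change MorphismProperty.isomorphisms _ f
  refine (IsZariskiLocalAtTarget.iff_of_iSup_eq_top (P := MorphismProperty.isomorphisms Scheme)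
    (fun U : S.affineOpens => g ⁻¹ᵁ U.1) ?_).2 fun U => ?_
  · rw [← Scheme.Hom.preimage_iSup, iSup_affineOpens_eq_top, Scheme.Hom.preimage_top]
  · have hV : IsAffineOpen (g ⁻¹ᵁ U.1) := U.2.preimage g
    have hb := bijective_app f g h U.2
    haveI := isIso_SpecMap_iff.2 hb
    have hW : IsAffineOpen (f ⁻¹ᵁ g ⁻¹ᵁ U.1) := hV.preimage f
    have hi : (f ∣_ (g ⁻¹ᵁ U.1)) = hW.isoSpec.hom ≫ Spec.map (f.app (g ⁻¹ᵁ U.1)) ≫ hV.isoSpec.inv := by
      rw [← cancel_mono (g ⁻¹ᵁ U.1).ι]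
      simp only [Category.assoc, hV.isoSpec_inv_ι, morphismRestrict_ι]
      rw [f.app_eq_appLE, hV.SpecMap_appLE_fromSpec f hW]
      rw [← hW.isoSpec_inv_ι, Category.assoc, Iso.hom_inv_id_assoc]
    show IsIso _
    rw [hi]; infer_instance

end Groth.Agent.CodimOneIso
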